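import Groth.Agent.SDiv28.Norm.LocFree
import Mathlib.RingTheory.Norm.Basic
import Mathlib.Algebra.Category.Ring.Constructions

/-! The norm of a finite locally free morphism evaluated on an affine test scheme with free functions. -/

set_option autoImplicit false
set_option backward.isDefEq.respectTransparency.types false

universe u v

open CategoryTheory AlgebraicGeometry TopologicalSpace
open Groth.Agent.GrpdLib

namespace Groth.Agent.GmNormLib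

theorem norm_eq_algebraNorm {A : Type u} {B : Type v} [CommRing A] [CommRing B] [Algebra A B] [Module.Finite A B]
    [Module.Free A B] [Nontrivial A] (p : ProjPres A B) (z : B) : p.norm z = Algebra.norm A z := by
  let b := Module.finBasis A B
  let p'' : ProjPres A B := ⟨_, b.equivFun.symm.toLinearMap, b.equivFun.toLinearMap, b.equivFun.symm_apply_apply⟩
  rw [ProjPres.norm_algEquiv p p'' AlgEquiv.refl, AlgEquiv.coe_refl, id, Algebra.norm_eq_matrix_det b]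
  have hmat : ∀ w : B, p''.mat w = Algebra.leftMulMatrix b w := fun w => by
    refine Matrix.ext fun (i : Fin (Module.finrank A B)) (j : Fin (Module.finrank A B)) => ?_
    show LinearMap.toMatrix' (b.equivFun.toLinearMap ∘ₗ Algebra.lmul A B w ∘ₗ b.equivFun.symm.toLinearMap) i j = _
    rw [LinearMap.toMatrix'_apply, Algebra.leftMulMatrix_eq_repr_mul]
    simp [Module.Basis.equivFun_symm_apply, Pi.single_apply]
  rw [ProjPres.norm, hmat, map_sub, map_one, add_sub_cancel]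

/-- The norm commutes with an affine test map whose algebra of functions is free. -/
theorem normHom_eval {P T PW W : Scheme.{u}} (π : P ⟶ T) [IsFinite π] [Flat π] [LocallyOfFinitePresentation π]
    {g : PW ⟶ P} {pW : PW ⟶ W} {q : W ⟶ T} (H : IsPullback g pW π q) [IsAffine W]
    {V : T.Opens} (hV : IsAffineOpen V) (hq : q ⁻¹ᵁ V = ⊤)
    [Algebra Γ(W, ⊤) Γ(PW, ⊤)] [Module.Finite Γ(W, ⊤) Γ(PW, ⊤)] [Module.Free Γ(W, ⊤) Γ(PW, ⊤)]
    (hA : ∀ a : Γ(W, ⊤), algebraMap Γ(W, ⊤) Γ(PW, ⊤) a = pW.appTop a) (s : Γ(P, ⊤)) :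
    q.appTop (SDiv28.Norm.normHom π ⊤ s) = Algebra.norm Γ(W, ⊤) (g.appTop s) := by
  rcases subsingleton_or_nontrivial Γ(W, ⊤) with hW | hW
  · exact Subsingleton.elim _ _
  have hUST : (⊤ : W.Opens) ≤ q ⁻¹ᵁ V := hq.ge
  have hg : g ⁻¹ᵁ (π ⁻¹ᵁ V) = ⊤ := by
    rw [← Scheme.Hom.comp_preimage, H.w, Scheme.Hom.comp_preimage, hq]
    rfl
  have hUY : (⊤ : PW.Opens) = g ⁻¹ᵁ (π ⁻¹ᵁ V) ⊓ pW ⁻¹ᵁ ⊤ := by
    rw [hg]
    exact (top_inf_eq _).symm
  have hpo := ((isIso_pushoutSection_iff H hUST le_rfl hUY).1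
    (isIso_pushoutSection_of_isAffineOpen H hUST le_rfl hUY hV (isAffineOpen_top W) (hV.preimage π))).flip
  letI : Algebra Γ(T, V) Γ(P, π ⁻¹ᵁ V) := (π.app V).hom.toAlgebra
  letI : Algebra Γ(T, V) Γ(W, ⊤) := (q.appLE V ⊤ hUST).hom.toAlgebra
  letI : Algebra Γ(P, π ⁻¹ᵁ V) Γ(PW, ⊤) := (g.appLE (π ⁻¹ᵁ V) ⊤ hg.ge).hom.toAlgebra
  letI : Algebra Γ(T, V) Γ(PW, ⊤) := ((π.app V) ≫ g.appLE (π ⁻¹ᵁ V) ⊤ hg.ge).hom.toAlgebra
  haveI : IsScalarTower Γ(T, V) Γ(P, π ⁻¹ᵁ V) Γ(PW, ⊤) := IsScalarTower.of_algebraMap_eq' rfl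
  have halg : CommRingCat.ofHom (algebraMap Γ(W, ⊤) Γ(PW, ⊤)) = pW.appLE ⊤ ⊤ le_top := by
    refine CommRingCat.hom_ext (RingHom.ext fun a => ?_)
    show algebraMap Γ(W, ⊤) Γ(PW, ⊤) a = _
    rw [hA, Scheme.Hom.appTop, Scheme.Hom.app_eq_appLE]
    rfl
  haveI : IsScalarTower Γ(T, V) Γ(W, ⊤) Γ(PW, ⊤) := by
    refine IsScalarTower.of_algebraMap_eq' ?_
    have h : q.appLE V ⊤ hUST ≫ pW.appLE ⊤ ⊤ le_top = π.app V ≫ g.appLE (π ⁻¹ᵁ V) ⊤ hg.ge := by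
      rw [Scheme.Hom.app_eq_appLE, Scheme.Hom.appLE_comp_appLE, Scheme.Hom.appLE_comp_appLE]
      simp only [H.w]
    rw [← halg] at h
    exact (congrArg CommRingCat.Hom.hom h).symm
  haveI : Algebra.IsPushout Γ(T, V) Γ(W, ⊤) Γ(P, π ⁻¹ᵁ V) Γ(PW, ⊤) := by
    rw [← CommRingCat.isPushout_iff_isPushout]
    rw [← π.app_eq_appLE, ← halg] at hpo
    exact hpo
  have h1 := SDiv28.Norm.normFun_spec π (U := ⊤) s hV (le_top : V ≤ ⊤)
  have h2 : q.appTop (SDiv28.Norm.normHom π ⊤ s) =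
      algebraMap Γ(T, V) Γ(W, ⊤) (SDiv28.Norm.affNorm π hV (P.presheaf.map (homOfLE (π.preimage_mono (le_top : V ≤ ⊤))).op s)) := by
    rw [← h1]
    show q.appTop _ = (T.presheaf.map (homOfLE (le_top : V ≤ ⊤)).op ≫ q.appLE V ⊤ hUST) _
    rw [Scheme.Hom.map_appLE, Scheme.Hom.appTop, Scheme.Hom.app_eq_appLE]
    rfl
  rw [h2]
  have h3 : algebraMap Γ(P, π ⁻¹ᵁ V) Γ(PW, ⊤) (P.presheaf.map (homOfLE (π.preimage_mono (le_top : V ≤ ⊤))).op s) =
      g.appTop s := by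
    show (P.presheaf.map (homOfLE (π.preimage_mono (le_top : V ≤ ⊤))).op ≫ g.appLE (π ⁻¹ᵁ V) ⊤ hg.ge) s = _
    rw [Scheme.Hom.map_appLE, Scheme.Hom.appTop, Scheme.Hom.app_eq_appLE]
    rfl
  rw [← h3, ← norm_eq_algebraNorm ((SDiv28.Norm.presV π hV).baseChange Γ(W, ⊤) Γ(PW, ⊤)), ProjPres.norm_baseChange]
  rfl

end Groth.Agent.GmNormLib
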